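import Mathlib.RingTheory.Artinian.Ring
import Mathlib.RingTheory.LocalRing.ResidueField.Basic
import Mathlib.FieldTheory.IsAlgClosed.Basic
import Mathlib.RingTheory.TensorProduct.Finite
import Mathlib.LinearAlgebra.TensorProduct.Tower
import Mathlib.Algebra.Polynomial.Eval.Defs
import Mathlib.Algebra.Polynomial.AlgebraMap
import Mathlib.LinearAlgebra.Basis.VectorSpace

/-!
# Ideals of the same colength of a punctual algebra are joined by pencils
-/

set_option autoImplicit false

universe u

open TensorProduct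

noncomputable section

namespace Groth.Agent.PunctConn

variable (k : Type u) [Field k] (R : Type u) [CommRing R] [Algebra k R]

/-- The augmentation after base change. -/
def rho (res : R →ₐ[k] k) (A : Type u) [CommRing A] [Algebra k A] : A ⊗[k] R →ₐ[A] A :=
  Algebra.TensorProduct.lift (Algebra.ofId A A) ((Algebra.ofId k A).comp res) fun _ _ => .all _ _

theorem rho_tmul (res : R →ₐ[k] k) (A : Type u) [CommRing A] [Algebra k A] (a : A) (r : R) :
    rho k R res A (a ⊗ₜ r) = a * algebraMap k A (res r) := rfl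

theorem exists_res [IsAlgClosed k] [IsLocalRing R] [Module.Finite k R] :
    ∃ res : R →ₐ[k] k, ∀ r, res r = 0 → IsNilpotent r := by
  haveI : IsArtinianRing R := IsArtinianRing.of_finite k R
  let p : R →ₐ[k] IsLocalRing.ResidueField R := IsScalarTower.toAlgHom k R _
  haveI : Module.Finite k (IsLocalRing.ResidueField R) :=
    Module.Finite.of_surjective p.toLinearMap Ideal.Quotient.mk_surjective
  let φ : IsLocalRing.ResidueField R →ₐ[k] k := IsAlgClosed.lift
  refine ⟨φ.comp p, fun r hr => ?_⟩
  have h1 : p r = 0 := φ.toRingHom.injective (hr.trans (map_zero φ.toRingHom).symm)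
  have h2 : r ∈ IsLocalRing.maximalIdeal R := Ideal.Quotient.eq_zero_iff_mem.1 h1
  obtain ⟨N, hN⟩ := IsArtinianRing.isNilpotent_jacobson_bot (R := R)
  rw [IsLocalRing.jacobson_eq_maximalIdeal _ bot_ne_top] at hN
  refine ⟨N, ?_⟩
  have := Ideal.pow_mem_pow h2 N
  rw [hN] at this
  exact this

variable (res : R →ₐ[k] k) (hres : ∀ r, res r = 0 → IsNilpotent r)

include hres in
theorem isNilpotent_sub_rho (A : Type u) [CommRing A] [Algebra k A] (x : A ⊗[k] R) :
    IsNilpotent (x - algebraMap A (A ⊗[k] R) (rho k R res A x)) := by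
  induction x using TensorProduct.induction_on with
  | zero => simp
  | add x y hx hy =>
    rw [map_add, map_add, add_sub_add_comm]
    exact (Commute.all _ _).isNilpotent_add hx hy
  | tmul a r =>
    have e : a ⊗ₜ r - algebraMap A (A ⊗[k] R) (rho k R res A (a ⊗ₜ r)) =
        (a ⊗ₜ 1) * Algebra.TensorProduct.includeRight (r - algebraMap k R (res r)) := by
      rw [rho_tmul, Algebra.TensorProduct.algebraMap_apply, Algebra.algebraMap_self, RingHom.id_apply,
        Algebra.TensorProduct.includeRight_apply, Algebra.TensorProduct.tmul_mul_tmul, mul_one, one_mul,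
        TensorProduct.tmul_sub]
      congr 1
      rw [Algebra.algebraMap_eq_smul_one (res r), Algebra.algebraMap_eq_smul_one (res r),
        TensorProduct.tmul_smul, TensorProduct.smul_tmul', Algebra.mul_smul_comm, mul_one]
    rw [e]
    exact (Commute.all _ _).isNilpotent_mul_left ((hres _ (by simp)).map _)

variable {K : Type u} [Field K] [Algebra k K]

/-- A line of the quotient by `J` killed by the augmentation ideal. -/
def IsSocle (J : Ideal (K ⊗[k] R)) (a : K ⊗[k] R) : Prop :=
  ∀ x, x * a - algebraMap K (K ⊗[k] R) (rho k R res K x) * a ∈ J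

include hres in
theorem exists_isSocle {P Q : Ideal (K ⊗[k] R)} [Module.Finite k R] (h : P < Q) :
    ∃ s ∈ Q, s ∉ P ∧ IsSocle k R res P s := by
  classical
  let m : Ideal (K ⊗[k] R) := RingHom.ker (rho k R res K)
  haveI : IsArtinianRing (K ⊗[k] R) := IsArtinianRing.of_finite K _
  have hm : m ≤ nilradical (K ⊗[k] R) := fun x hx => by
    have := isNilpotent_sub_rho k R res hres K x
    rwa [show rho k R res K x = 0 from hx, map_zero, sub_zero] at this
  obtain ⟨N, hN⟩ : IsNilpotent m := by
    obtain ⟨N, hN⟩ := IsArtinianRing.isNilpotent_nilradical (R := K ⊗[k] R)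
    exact ⟨N, le_bot_iff.1 (le_trans (Ideal.pow_right_mono hm N) hN.le)⟩
  have key : ∀ (j : ℕ) (L : Ideal (K ⊗[k] R)), L = m ^ j → L * Q ≤ P →
      ∃ s ∈ Q, s ∉ P ∧ ∀ x ∈ m, x * s ∈ P := by
    intro j
    induction j with
    | zero =>
      intro L hL hle
      rw [hL, pow_zero, Ideal.one_eq_top, Ideal.top_mul] at hle
      exact absurd hle h.not_ge
    | succ j ih =>
      intro L hL hle
      by_cases h1 : (m ^ j) * Q ≤ P
      · exact ih _ rfl h1
      · obtain ⟨s, hs, hsP⟩ := SetLike.not_le_iff_exists.1 h1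
        refine ⟨s, (Ideal.mul_le_right : m ^ j * Q ≤ Q) hs, hsP, fun x hx => ?_⟩
        rw [hL, pow_succ', mul_assoc] at hle
        exact hle (Ideal.mul_mem_mul hx hs)
  obtain ⟨s, hsQ, hsP, hs⟩ := key N ⊥ hN.symm (by simp)
  refine ⟨s, hsQ, hsP, fun x => ?_⟩
  rw [← sub_mul]
  refine hs _ ?_
  show rho k R res K (x - algebraMap K (K ⊗[k] R) (rho k R res K x)) = 0
  rw [map_sub, AlgHom.commutes]; simp

omit hres

/-- The dimension of an ideal. -/
def dim (P : Ideal (K ⊗[k] R)) : ℕ := Module.finrank K (P.restrictScalars K)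

variable [Module.Finite k R]

theorem dim_sup_add (P Q : Ideal (K ⊗[k] R)) :
    dim k R (P ⊔ Q) + dim k R (P ⊓ Q) = dim k R P + dim k R Q := by
  have h := Submodule.finrank_sup_add_finrank_inf_eq (P.restrictScalars K) (Q.restrictScalars K)
  unfold dim
  rw [Submodule.restrictScalars_sup, Submodule.restrictScalars_inf]
  exact h

theorem dim_mono {P Q : Ideal (K ⊗[k] R)} (h : P ≤ Q) : dim k R P ≤ dim k R Q :=
  Submodule.finrank_mono (by exact h)

theorem eq_of_le_of_dim {P Q : Ideal (K ⊗[k] R)} (h : P ≤ Q) (h' : dim k R Q ≤ dim k R P) : P = Q :=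
  Submodule.restrictScalars_injective K _ _
    (Submodule.eq_of_le_of_finrank_le (S₁ := P.restrictScalars K) (by exact h) h')

theorem dim_quotient (P : Ideal (K ⊗[k] R)) :
    Module.finrank K ((K ⊗[k] R) ⧸ P) + dim k R P = Module.finrank K (K ⊗[k] R) :=
  Submodule.finrank_quotient_add_finrank (P.restrictScalars K)

theorem span_socle_le {J : Ideal (K ⊗[k] R)} {a : K ⊗[k] R} (h : IsSocle k R res J a)
    {z : K ⊗[k] R} (hz : z ∈ J ⊔ Ideal.span {a}) : ∃ c : K, z - algebraMap K _ c * a ∈ J := by
  obtain ⟨y, hy, w, hw, rfl⟩ := Submodule.mem_sup.1 hz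
  obtain ⟨x, rfl⟩ := Ideal.mem_span_singleton'.1 hw
  exact ⟨rho k R res K x, by rw [add_sub_assoc]; exact J.add_mem hy (h x)⟩

theorem dim_sup_socle {J : Ideal (K ⊗[k] R)} {a : K ⊗[k] R} (h : IsSocle k R res J a) (ha : a ∉ J) :
    dim k R (J ⊔ Ideal.span {a}) = dim k R J + 1 := by
  have e : (J ⊔ Ideal.span {a}).restrictScalars K = J.restrictScalars K ⊔ K ∙ a := by
    refine le_antisymm (fun z hz => ?_) (sup_le (fun z hz => Ideal.mem_sup_left hz) ?_)
    · obtain ⟨c, hc⟩ := span_socle_le k R res h hz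
      refine Submodule.mem_sup.2 ⟨_, hc, c • a, Submodule.smul_mem _ _ (Submodule.mem_span_singleton_self a), ?_⟩
      rw [Algebra.smul_def, sub_add_cancel]
    · rw [Submodule.span_singleton_le_iff_mem]
      exact Ideal.mem_sup_right (Ideal.mem_span_singleton_self a)
  have ha0 : a ≠ 0 := fun h0 => ha (h0 ▸ J.zero_mem)
  have hinf : J.restrictScalars K ⊓ K ∙ a = ⊥ := by
    rw [eq_bot_iff]
    rintro z ⟨hz, hz'⟩
    obtain ⟨c, rfl⟩ := Submodule.mem_span_singleton.1 hz'
    by_cases hc : c = 0
    · simp [hc]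
    · exact (ha (by simpa [smul_smul, inv_mul_cancel₀ hc] using (J.restrictScalars K).smul_mem c⁻¹ hz)).elim
  have := Submodule.finrank_sup_add_finrank_inf_eq (J.restrictScalars K) (K ∙ a)
  rw [← e, hinf, finrank_bot, add_zero, finrank_span_singleton ha0] at this
  exact this

include hres in
theorem exists_top_step (P Q : Ideal (K ⊗[k] R)) (h : P < Q) :
    ∃ M, P ≤ M ∧ M ≤ Q ∧ dim k R M + 1 = dim k R Q := by
  obtain ⟨g, hg⟩ : ∃ g, dim k R Q - dim k R P = g := ⟨_, rfl⟩
  induction g using Nat.strong_induction_on generalizing P with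
  | _ g ih =>
    obtain ⟨s, hsQ, hsP, hs⟩ := exists_isSocle k R res hres h
    have hle : P ⊔ Ideal.span {s} ≤ Q := sup_le h.le (by simpa [Ideal.span_le] using hsQ)
    have hd := dim_sup_socle k R res hs hsP
    rcases eq_or_lt_of_le hle with heq | hlt
    · exact ⟨P, le_rfl, h.le, by rw [← heq, hd]⟩
    · have := dim_mono k R hle
      obtain ⟨M, hM1, hM2, hM3⟩ := ih (dim k R Q - dim k R (P ⊔ Ideal.span {s})) (by omega) _ hlt rfl
      exact ⟨M, le_sup_left.trans hM1, hM2, hM3⟩

/-- The pencil through two ideals meeting in a hyperplane of each. -/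
structure IsPencil (I I' : Ideal (K ⊗[k] R)) (n : ℕ)
    (𝒥 : Ideal (Polynomial K ⊗[k] R)) : Prop where
  basis : Nonempty (Module.Basis (Fin n) (Polynomial K) ((Polynomial K ⊗[k] R) ⧸ 𝒥))
  at_one : 𝒥.map (Algebra.TensorProduct.map ((Polynomial.aeval (R := K) (1 : K)).restrictScalars k) (AlgHom.id k R)) = I
  at_zero : 𝒥.map (Algebra.TensorProduct.map ((Polynomial.aeval (R := K) (0 : K)).restrictScalars k) (AlgHom.id k R)) = I'

section Pencil

variable (J : Ideal (K ⊗[k] R)) (a b : K ⊗[k] R)

/-- The base change map. -/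
def bc (A : Type u) [CommRing A] [Algebra k A] [Algebra K A] [IsScalarTower k K A] : K ⊗[k] R →ₐ[k] A ⊗[k] R :=
  Algebra.TensorProduct.map (IsScalarTower.toAlgHom k K A) (AlgHom.id k R)

/-- The ideal spanned by `J` and `u a + v b`. -/
def penIdeal (A : Type u) [CommRing A] [Algebra k A] [Algebra K A] [IsScalarTower k K A] (u v : A) :
    Ideal (A ⊗[k] R) :=
  J.map (bc k R A) ⊔ Ideal.span {algebraMap A _ u * bc k R A a + algebraMap A _ v * bc k R A b}

theorem penIdeal_map {A A' : Type u} [CommRing A] [Algebra k A] [Algebra K A] [IsScalarTower k K A]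
    [CommRing A'] [Algebra k A'] [Algebra K A'] [IsScalarTower k K A'] (φ : A →ₐ[K] A') (u v : A) :
    (penIdeal k R J a b A u v).map (Algebra.TensorProduct.map (φ.restrictScalars k) (AlgHom.id k R)) =
      penIdeal k R J a b A' (φ u) (φ v) := by
  set Φ := Algebra.TensorProduct.map (φ.restrictScalars k) (AlgHom.id k R)
  have e : Φ.comp (bc k R (K := K) A) = bc k R (K := K) A' := Algebra.TensorProduct.ext'
    (fun c r => by simp [Φ, bc])
  have e' : ∀ x : K ⊗[k] R, Φ (bc k R A x) = bc k R A' x := AlgHom.congr_fun e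
  have eu : ∀ u, Φ (algebraMap A (A ⊗[k] R) u) = algebraMap A' (A' ⊗[k] R) (φ u) := fun u => by
    simp [Φ, Algebra.TensorProduct.algebraMap_apply]
  rw [penIdeal, penIdeal, Ideal.map_sup, Ideal.map_span, Set.image_singleton, map_add, map_mul, map_mul,
    e', e', eu, eu, ← e]
  rw [Ideal.map_mapₐ]

variable {a b} (ha : IsSocle k R res J a) (hb : IsSocle k R res J b)
  (hli : LinearIndependent K ![(Ideal.Quotient.mk J a), (Ideal.Quotient.mk J b)])

include ha hb hli in
theorem penIdeal_basis (A : Type u) [CommRing A] [Algebra k A] [Algebra K A] [IsScalarTower k K A]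
    (u v : A) (huv : u + v = 1) :
    Nonempty (Module.Basis (Unit ⊕ Module.Basis.sumExtendIndex hli) A ((A ⊗[k] R) ⧸ penIdeal k R J a b A u v)) := by
  classical
  let B := Module.Basis.sumExtend hli
  haveI := Module.Finite.finite_basis B
  haveI : Finite (Module.Basis.sumExtendIndex hli) :=
    Finite.of_injective (Sum.inr : _ → Fin 2 ⊕ Module.Basis.sumExtendIndex hli) Sum.inr_injective
  letI := Fintype.ofFinite (Module.Basis.sumExtendIndex hli)
  let ι := Fin 2 ⊕ Module.Basis.sumExtendIndex hli
  let cK : K ⊗[k] R →ₗ[K] (ι → K) :=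
    B.equivFun.toLinearMap ∘ₗ (Submodule.mkQ (J.restrictScalars K) : _ →ₗ[K] (K ⊗[k] R) ⧸ J)
  let c : R →ₗ[k] (ι → A) := LinearMap.pi fun i =>
    ((IsScalarTower.toAlgHom k K A).toLinearMap ∘ₗ
      (((LinearMap.proj i : (ι → K) →ₗ[K] K) ∘ₗ cK).restrictScalars k) ∘ₗ
      (Algebra.TensorProduct.includeRight : R →ₐ[k] K ⊗[k] R).toLinearMap)
  let C : A ⊗[k] R →ₗ[A] (ι → A) := c.liftBaseChange A
  have hCbc : ∀ x i, C (bc k R A x) i = algebraMap K A (cK x i) := by
    intro x i
    induction x using TensorProduct.induction_on with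
    | zero => simp
    | add x y hx hy => simp [hx, hy]
    | tmul l r =>
      show C ((algebraMap K A l) ⊗ₜ r) i = _
      rw [LinearMap.liftBaseChange_tmul, Pi.smul_apply, smul_eq_mul]
      show algebraMap K A l * algebraMap K A (cK (1 ⊗ₜ r) i) = _
      rw [← map_mul, show l ⊗ₜ[k] r = l • (1 ⊗ₜ[k] r : K ⊗[k] R) by
        rw [TensorProduct.smul_tmul', smul_eq_mul, mul_one], map_smul cK, Pi.smul_apply, smul_eq_mul]
  have hlift : ∀ i, ∃ e : K ⊗[k] R, Ideal.Quotient.mk J e = B i := fun i => Ideal.Quotient.mk_surjective _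
  choose e₀ he₀ using hlift
  let e : ι → K ⊗[k] R := Sum.elim ![a, b] fun i => e₀ (Sum.inr i)
  have he : ∀ i, Ideal.Quotient.mk J (e i) = B i := by
    rintro (i | i)
    · show _ = Module.Basis.sumExtend hli (Sum.inl i)
      rw [Module.Basis.sumExtend, Module.Basis.reindex_apply]
      fin_cases i <;> simp [e] <;> rfl
    · exact he₀ _
  have hcKe : ∀ i j, cK (e i) j = if i = j then 1 else 0 := fun i j => by
    show B.equivFun (Ideal.Quotient.mk J (e i)) j = _
    rw [he, Module.Basis.equivFun_self]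
  have hJ : ∀ x ∈ J, cK x = 0 := fun x hx => by
    show B.equivFun (Ideal.Quotient.mk J x) = 0
    rw [Ideal.Quotient.eq_zero_iff_mem.2 hx, map_zero]
  set JA := J.map (bc k R A) with hJA
  have hspan : ∀ x, x - ∑ i, algebraMap A (A ⊗[k] R) (C x i) * bc k R A (e i) ∈ JA := by
    intro x
    induction x using TensorProduct.induction_on with
    | zero => simp
    | add x y hx hy =>
      have := JA.add_mem hx hy
      convert this using 1
      simp only [map_add, Pi.add_apply, add_mul, Finset.sum_add_distrib]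
      ring
    | tmul l r =>
      have hk : (1 ⊗ₜ r : K ⊗[k] R) - ∑ i, algebraMap K _ (cK (1 ⊗ₜ r) i) * e i ∈ J := by
        rw [← Ideal.Quotient.eq_zero_iff_mem, map_sub, map_sum, sub_eq_zero]
        conv_lhs => rw [← B.sum_equivFun (Ideal.Quotient.mk J (1 ⊗ₜ r))]
        refine Finset.sum_congr rfl fun i _ => ?_
        rw [map_mul, he, Ideal.Quotient.mk_algebraMap]
        exact Algebra.smul_def (A := (K ⊗[k] R) ⧸ J) _ _
      have h2 : algebraMap A (A ⊗[k] R) l * bc k R A
          ((1 ⊗ₜ r : K ⊗[k] R) - ∑ i, algebraMap K _ (cK (1 ⊗ₜ r) i) * e i) ∈ JA :=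
        JA.mul_mem_left _ (Ideal.mem_map_of_mem _ hk)
      convert h2 using 1
      rw [map_sub, mul_sub, map_sum, Finset.mul_sum]
      congr 1
      · simp [bc, Algebra.TensorProduct.algebraMap_apply]
      · refine Finset.sum_congr rfl fun i _ => ?_
        show algebraMap A _ ((c.liftBaseChange A) (l ⊗ₜ r) i) * _ = _
        rw [LinearMap.liftBaseChange_tmul, Pi.smul_apply, smul_eq_mul, map_mul, map_mul, mul_assoc]
        congr 2
        all_goals simp [c, bc, Algebra.TensorProduct.algebraMap_apply]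
  have hCJA : ∀ x ∈ JA, C x = 0 := by
    intro x hx
    let Kz : Submodule A (A ⊗[k] R) := LinearMap.ker C
    -- it is enough to treat products
    refine Submodule.span_induction (p := fun x _ => ∀ y, C (y * x) = 0) ?_ (by simp)
      (fun x y _ _ hx hy z => by rw [mul_add, map_add, hx z, hy z, add_zero])
      (fun r x _ hx y => by rw [smul_eq_mul, ← mul_assoc]; exact hx _) hx 1 |> fun h => by rwa [one_mul] at h
    rintro _ ⟨j, hj, rfl⟩ y
    induction y using TensorProduct.induction_on with
    | zero => simp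
    | add y z hy hz => simp [add_mul, hy, hz]
    | tmul l r =>
      have e1 : (l ⊗ₜ r) * bc k R A j = l • bc k R A ((1 ⊗ₜ r) * j) := by
        rw [map_mul, ← smul_mul_assoc]
        congr 1
        simp [bc, TensorProduct.smul_tmul']
      rw [e1, map_smul]
      convert smul_zero l
      funext i
      rw [hCbc, hJ _ (J.mul_mem_left _ hj)]
      simp
  let i0 : ι := Sum.inl 0
  let i1 : ι := Sum.inl 1
  let w := algebraMap A (A ⊗[k] R) u * bc k R A a + algebraMap A _ v * bc k R A b
  have hsoc : ∀ {z : K ⊗[k] R}, IsSocle k R res J z → ∀ x : A ⊗[k] R,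
      x * bc k R A z - algebraMap A _ (rho k R res A x) * bc k R A z ∈ JA := by
    intro z hz x
    induction x using TensorProduct.induction_on with
    | zero => simp
    | add x y hx hy =>
      have := JA.add_mem hx hy
      convert this using 1
      simp only [map_add]; ring
    | tmul l r =>
      have h2 := JA.mul_mem_left (algebraMap A (A ⊗[k] R) l) (Ideal.mem_map_of_mem (bc k R A) (hz (1 ⊗ₜ r)))
      convert h2 using 1
      rw [map_sub, map_mul, map_mul, mul_sub, ← mul_assoc, ← mul_assoc]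
      congr 2
      · simp [bc, Algebra.TensorProduct.algebraMap_apply]
      · simp [bc, rho_tmul, Algebra.TensorProduct.algebraMap_apply, IsScalarTower.algebraMap_apply k K A]
  have hw : ∀ z ∈ penIdeal k R J a b A u v, ∃ y : A, z - algebraMap A _ y * w ∈ JA := by
    intro z hz
    obtain ⟨p, hp, q, hq, rfl⟩ := Submodule.mem_sup.1 hz
    obtain ⟨x, rfl⟩ := Ideal.mem_span_singleton'.1 hq
    refine ⟨rho k R res A x, ?_⟩
    have := JA.add_mem hp (JA.add_mem (JA.mul_mem_left (algebraMap A _ u) (hsoc ha x))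
      (JA.mul_mem_left (algebraMap A _ v) (hsoc hb x)))
    convert this using 1
    simp only [w]; ring
  let Φ : A ⊗[k] R →ₗ[A] (Unit ⊕ Module.Basis.sumExtendIndex hli → A) :=
    LinearMap.pi (Sum.elim (fun _ => v • (LinearMap.proj i0 ∘ₗ C) - u • (LinearMap.proj i1 ∘ₗ C))
      fun i => LinearMap.proj (Sum.inr i) ∘ₗ C)
  have hCe : ∀ i j, C (bc k R A (e i)) j = if i = j then 1 else 0 := fun i j => by
    rw [hCbc, hcKe]; split_ifs <;> simp
  have hΦl : ∀ x, Φ x (Sum.inl ()) = v * C x i0 - u * C x i1 := fun x => rfl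
  have hΦr : ∀ x i, Φ x (Sum.inr i) = C x (Sum.inr i) := fun x i => rfl
  have hΦ0 : ∀ x, C x = 0 → Φ x = 0 := fun x hx => by
    funext j
    rcases j with ⟨⟩ | j
    · rw [hΦl, hx]; simp
    · rw [hΦr, hx]; simp
  have hΦa : Φ (bc k R A a) = Pi.single (Sum.inl ()) v := by
    funext j
    have h : ∀ i, C (bc k R A a) i = if i0 = i then 1 else 0 := hCe i0
    rcases j with ⟨⟩ | j
    · rw [hΦl, h, h, Pi.single_eq_same, if_pos rfl, if_neg (fun h => absurd (Sum.inl.inj h) (by decide))]
      simp
    · rw [hΦr, h, Pi.single_eq_of_ne Sum.inr_ne_inl]; simp [i0]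
  have hΦb : Φ (bc k R A b) = Pi.single (Sum.inl ()) (-u) := by
    funext j
    have h : ∀ i, C (bc k R A b) i = if i1 = i then 1 else 0 := hCe i1
    rcases j with ⟨⟩ | j
    · rw [hΦl, h, h, Pi.single_eq_same, if_pos rfl, if_neg (fun h => absurd (Sum.inl.inj h) (by decide))]
      simp
    · rw [hΦr, h, Pi.single_eq_of_ne Sum.inr_ne_inl]; simp [i1]
  have hΦe : ∀ i, Φ (bc k R A (e (Sum.inr i))) = Pi.single (Sum.inr i) 1 := by
    intro i
    funext j
    rcases j with ⟨⟩ | j
    · rw [hΦl, hCe, hCe, Pi.single_eq_of_ne Sum.inl_ne_inr]; simp [i0, i1]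
    · rw [hΦr, hCe]
      by_cases hij : i = j
      · subst hij; simp
      · rw [if_neg (fun h => hij (Sum.inr.inj h)), Pi.single_eq_of_ne (fun h => hij (Sum.inr.inj h).symm)]
  have hΦsurj : Function.Surjective Φ := by
    intro y
    refine ⟨y (Sum.inl ()) • (bc k R A a - bc k R A b) + ∑ i, y (Sum.inr i) • bc k R A (e (Sum.inr i)), ?_⟩
    simp only [map_add, map_smul, map_sub, map_sum, hΦa, hΦb, hΦe]
    funext j
    rcases j with ⟨⟩ | j
    · simp [mul_comm]
      linear_combination (y (Sum.inl ())) * huv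
    · simp [Pi.single_apply]
  have hker : LinearMap.ker Φ = (penIdeal k R J a b A u v).restrictScalars A := by
    apply le_antisymm
    · intro x hx
      have hx' : ∀ j, Φ x j = 0 := fun j => congrFun (show Φ x = 0 from hx) j
      have h0 : v * C x i0 - u * C x i1 = 0 := hx' (Sum.inl ())
      have h1 : ∀ i, C x (Sum.inr i) = 0 := fun i => hx' (Sum.inr i)
      have := hspan x
      rw [Fintype.sum_sum_type, Fin.sum_univ_two] at this
      have e2 : x = (x - (algebraMap A _ (C x i0) * bc k R A (e i0) + algebraMap A _ (C x i1) * bc k R A (e i1) +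
          ∑ i, algebraMap A _ (C x (Sum.inr i)) * bc k R A (e (Sum.inr i)))) +
          algebraMap A _ (C x i0 + C x i1) * w := by
        have ea : C x i0 = (C x i0 + C x i1) * u := by linear_combination h0 - C x i0 * huv
        have eb : C x i1 = (C x i0 + C x i1) * v := by linear_combination -h0 - C x i1 * huv
        have ha' := congrArg (algebraMap A (A ⊗[k] R)) ea
        have hb' := congrArg (algebraMap A (A ⊗[k] R)) eb
        simp only [map_mul, map_add] at ha' hb'
        simp only [h1, map_zero, zero_mul, Finset.sum_const_zero, add_zero, w, map_add]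
        show x = x - (algebraMap A _ (C x i0) * bc k R A a + algebraMap A _ (C x i1) * bc k R A b) + _
        linear_combination ha' * bc k R A a + hb' * bc k R A b
      rw [e2]
      exact Ideal.add_mem _ (Ideal.mem_sup_left this)
        (Ideal.mul_mem_left _ _ (Ideal.mem_sup_right (Ideal.mem_span_singleton_self w)))
    · intro z hz
      obtain ⟨y, hy⟩ := hw z hz
      have hΦJ : Φ (z - algebraMap A _ y * w) = 0 := hΦ0 _ (hCJA _ hy)
      have hΦw : Φ w = 0 := by
        show Φ (algebraMap A _ u * bc k R A a + algebraMap A _ v * bc k R A b) = 0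
        rw [← Algebra.smul_def, ← Algebra.smul_def, map_add, map_smul, map_smul, hΦa, hΦb,
          ← Pi.single_smul', ← Pi.single_smul', ← Pi.single_add, smul_eq_mul, smul_eq_mul,
          mul_neg, mul_comm u v, add_neg_cancel, Pi.single_zero]
      rw [LinearMap.mem_ker]
      have : z = (z - algebraMap A _ y * w) + y • w := by rw [Algebra.smul_def, sub_add_cancel]
      rw [this, map_add, map_smul, hΦJ, hΦw, smul_zero, add_zero]
  exact ⟨Module.Basis.ofEquivFun (((Submodule.quotEquivOfEq _ _ hker.symm).trans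
    (Φ.quotKerEquivOfSurjective hΦsurj)))⟩

end Pencil

include hres in
theorem exists_pencil {I I' : Ideal (K ⊗[k] R)} {n : ℕ}
    (hI : Module.finrank K ((K ⊗[k] R) ⧸ I) = n) (hI' : Module.finrank K ((K ⊗[k] R) ⧸ I') = n)
    (h1 : dim k R (I ⊔ I') = dim k R I + 1) : ∃ 𝒥, IsPencil k R I I' n 𝒥 := by
  classical
  have hdim : dim k R I' = dim k R I := by
    have := dim_quotient k R I; have := dim_quotient k R I'; omega
  set J := I ⊓ I' with hJ
  have hJd : dim k R J + 1 = dim k R I := by have := dim_sup_add k R I I'; rw [← hJ] at this; omega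
  have hJlt : J < I := lt_of_le_of_ne inf_le_left fun h => by rw [h] at hJd; omega
  have hJlt' : J < I' := lt_of_le_of_ne inf_le_right fun h => by rw [h] at hJd; omega
  obtain ⟨a, haI, haJ, ha⟩ := exists_isSocle k R res hres hJlt
  obtain ⟨b, hbI, hbJ, hb⟩ := exists_isSocle k R res hres hJlt'
  have hIa : J ⊔ Ideal.span {a} = I :=
    eq_of_le_of_dim k R (sup_le hJlt.le (by simpa [Ideal.span_le] using haI))
      (by rw [dim_sup_socle k R res ha haJ]; omega)
  have hIb : J ⊔ Ideal.span {b} = I' :=
    eq_of_le_of_dim k R (sup_le hJlt'.le (by simpa [Ideal.span_le] using hbI))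
      (by rw [dim_sup_socle k R res hb hbJ]; omega)
  have hli : LinearIndependent K ![(Ideal.Quotient.mk J a), (Ideal.Quotient.mk J b)] := by
    rw [LinearIndependent.pair_iff]
    intro s t hst
    have hm : algebraMap K (K ⊗[k] R) s * a + algebraMap K _ t * b ∈ J := by
      rw [← Ideal.Quotient.eq_zero_iff_mem, map_add, map_mul, map_mul]
      refine Eq.trans ?_ hst
      rw [Ideal.Quotient.mk_algebraMap, Ideal.Quotient.mk_algebraMap]
      exact congrArg₂ (· + ·) (Algebra.smul_def (A := (K ⊗[k] R) ⧸ J) _ _).symm (Algebra.smul_def (A := (K ⊗[k] R) ⧸ J) _ _).symm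
    have hs : algebraMap K (K ⊗[k] R) s * a ∈ J :=
      ⟨I.mul_mem_left _ haI, by
        have := I'.sub_mem hm.2 (I'.mul_mem_left (algebraMap K _ t) hbI)
        simpa using this⟩
    have ht : algebraMap K (K ⊗[k] R) t * b ∈ J := by
      have := J.sub_mem hm hs
      simpa using this
    constructor
    · by_contra hs0
      have := J.mul_mem_left (algebraMap K _ s⁻¹) hs
      rw [← mul_assoc, ← map_mul, inv_mul_cancel₀ hs0, map_one, one_mul] at this
      exact haJ this
    · by_contra ht0
      have := J.mul_mem_left (algebraMap K _ t⁻¹) ht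
      rw [← mul_assoc, ← map_mul, inv_mul_cancel₀ ht0, map_one, one_mul] at this
      exact hbJ this
  haveI : Finite (Module.Basis.sumExtendIndex hli) := by
    haveI := Module.Finite.finite_basis (Module.Basis.sumExtend hli)
    exact Finite.of_injective (Sum.inr : _ → Fin 2 ⊕ Module.Basis.sumExtendIndex hli) Sum.inr_injective
  have hbc : ∀ x, bc k R K x = x := AlgHom.congr_fun (show bc k R K = AlgHom.id k (K ⊗[k] R) from
    Algebra.TensorProduct.ext' fun c r => by simp [bc])
  have hJK : J.map (bc k R K) = J := by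
    have : bc k R K = AlgHom.id k _ := AlgHom.ext hbc
    rw [this]; exact Ideal.map_id J
  have hone : penIdeal k R J a b K 1 0 = I := by
    rw [penIdeal, hJK, map_one, map_zero, one_mul, zero_mul, add_zero, hbc, hIa]
  have hzero : penIdeal k R J a b K 0 1 = I' := by
    rw [penIdeal, hJK, map_one, map_zero, one_mul, zero_mul, zero_add, hbc, hIb]
  have hn : Nat.card (Unit ⊕ Module.Basis.sumExtendIndex hli) = n := by
    obtain ⟨B⟩ := penIdeal_basis k R res J ha hb hli K 1 0 (by simp)
    rw [← hI, ← hone, Module.finrank_eq_nat_card_basis B]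
  obtain ⟨B⟩ := penIdeal_basis k R res J ha hb hli (Polynomial K) Polynomial.X (1 - Polynomial.X) (by ring)
  refine ⟨_, ⟨B.reindex (Finite.equivFinOfCardEq hn)⟩, ?_, ?_⟩
  · rw [penIdeal_map]; simpa using hone
  · rw [penIdeal_map]; simpa using hzero

include hres in
/-- Induction along pencils. -/
theorem rel_of_pencils (n : ℕ) (r : Ideal (K ⊗[k] R) → Ideal (K ⊗[k] R) → Prop)
    (hrefl : ∀ I, r I I) (htrans : ∀ {I J L}, r I J → r J L → r I L)
    (hpen : ∀ I I' 𝒥, IsPencil k R I I' n 𝒥 → r I I')
    (I I' : Ideal (K ⊗[k] R)) (hI : Module.finrank K ((K ⊗[k] R) ⧸ I) = n)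
    (hI' : Module.finrank K ((K ⊗[k] R) ⧸ I') = n) : r I I' := by
  obtain ⟨c, hc⟩ : ∃ c, dim k R (I ⊔ I') - dim k R I = c := ⟨_, rfl⟩
  induction c using Nat.strong_induction_on generalizing I I' with
  | _ c ih =>
    have hd : dim k R I' = dim k R I := by
      have := dim_quotient k R I; have := dim_quotient k R I'; omega
    have hle := dim_mono k R (le_sup_left : I ≤ I ⊔ I')
    rcases Nat.lt_or_ge c 2 with hc2 | hc2
    · rcases Nat.eq_zero_or_pos c with rfl | hc0
      · have e : I = I ⊔ I' := eq_of_le_of_dim k R le_sup_left (by omega)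
        rw [show I' = I from eq_of_le_of_dim k R (le_sup_right.trans_eq e.symm) (by omega)]
        exact hrefl _
      · obtain ⟨𝒥, h⟩ := exists_pencil k R res hres hI hI' (by omega)
        exact hpen _ _ 𝒥 h
    · set J := I ⊓ I' with hJ
      have hJd := dim_sup_add k R I I'
      rw [← hJ] at hJd
      have hlt : J < I := lt_of_le_of_ne inf_le_left fun h => by rw [h] at hJd; omega
      have hlt' : J < I' := lt_of_le_of_ne inf_le_right fun h => by rw [h] at hJd; omega
      obtain ⟨A, hA1, hA2, hA3⟩ := exists_top_step k R res hres J I hlt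
      obtain ⟨s, hsI, hsJ, hs⟩ := exists_isSocle k R res hres hlt'
      set S := J ⊔ Ideal.span {s} with hS
      have hSI : S ≤ I' := sup_le hlt'.le (by simpa [Ideal.span_le] using hsI)
      have hSd : dim k R S = dim k R J + 1 := dim_sup_socle k R res hs hsJ
      have hAS : A ⊓ S = J := le_antisymm (inf_le_inf hA2 hSI) (le_inf hA1 le_sup_left)
      have hIS : I ⊓ S = J := le_antisymm (inf_le_inf le_rfl hSI) (le_inf inf_le_left le_sup_left)
      have hIA : I' ⊓ A = J := le_antisymm ((inf_le_inf le_rfl hA2).trans_eq (inf_comm _ _))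
        (le_inf inf_le_right hA1)
      have d1 := dim_sup_add k R A S; rw [hAS] at d1
      have d2 := dim_sup_add k R I S; rw [hIS] at d2
      have d3 := dim_sup_add k R I' A; rw [hIA] at d3
      have hq : Module.finrank K ((K ⊗[k] R) ⧸ (A ⊔ S)) = n := by
        have := dim_quotient k R I; have := dim_quotient k R (A ⊔ S); omega
      have e1 : I ⊔ (A ⊔ S) = I ⊔ S := by rw [← sup_assoc, sup_eq_left.2 hA2]
      have e2 : (A ⊔ S) ⊔ I' = I' ⊔ A := by rw [sup_assoc, sup_eq_right.2 hSI, sup_comm]
      refine htrans (ih 1 (by omega) I (A ⊔ S) hI hq (by rw [e1]; omega))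
        (ih (c - 1) (by omega) (A ⊔ S) I' hq hI' (by rw [e2]; omega))

end Groth.Agent.PunctConn
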