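import Groth.Agent.PunctConn.Algebra
import Groth.Agent.HilbD.ChartRep
import Groth.Agent.HilbD.Push
import Groth.Agent.ZetaLib.Points
import Mathlib.AlgebraicGeometry.Pullbacks
import Mathlib.AlgebraicGeometry.Morphisms.ClosedImmersion

/-!
# The punctual Hilbert scheme of a local Artinian algebra is connected
-/

set_option autoImplicit false
set_option linter.style.haveILetI false

universe u

open CategoryTheory CategoryTheory.Limits AlgebraicGeometry TensorProduct

noncomputable section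

namespace Groth.Agent.PunctConn

variable (k : Type u) [Field k] (R : Type u) [CommRing R] [Algebra k R]

/-- The structure map of `Spec R`. -/
abbrev str : Spec (CommRingCat.of R) ⟶ Spec (CommRingCat.of k) := Spec.map (CommRingCat.ofHom (algebraMap k R))

variable (A : Type u) [CommRing A] [Algebra k A]

/-- `Spec A` over `k`. -/
abbrev pt : Over (Spec (CommRingCat.of k)) := Over.mk (Spec.map (CommRingCat.ofHom (algebraMap k A)))

/-- The comparison. -/
def toXT : Spec (CommRingCat.of (A ⊗[k] R)) ≅ PicF.XT (str k R) (pt k A) :=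
  (pullbackSpecIso k A R).symm ≪≫ pullbackSymmetry _ _

theorem toXT_proj :
    (toXT k R A).hom ≫ PicF.XTproj (str k R) (pt k A) = Spec.map (CommRingCat.ofHom (algebraMap A (A ⊗[k] R))) := by
  show ((pullbackSpecIso k A R).inv ≫ (pullbackSymmetry _ _).hom) ≫ pullback.snd (str k R) (pt k A).hom = _
  rw [Category.assoc]
  erw [pullbackSymmetry_hom_comp_snd, pullbackSpecIso_inv_fst]

theorem toXT_fst :
    (toXT k R A).hom ≫ pullback.fst (str k R) (pt k A).hom =
      Spec.map (CommRingCat.ofHom (Algebra.TensorProduct.includeRight : R →ₐ[k] A ⊗[k] R).toRingHom) := by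
  show ((pullbackSpecIso k A R).inv ≫ (pullbackSymmetry _ _).hom) ≫ pullback.fst (str k R) (pt k A).hom = _
  rw [Category.assoc]
  erw [pullbackSymmetry_hom_comp_fst, pullbackSpecIso_inv_snd]
  rfl

variable {A}

/-- The subscheme of an ideal. -/
def famι (J : Ideal (A ⊗[k] R)) : Spec (CommRingCat.of ((A ⊗[k] R) ⧸ J)) ⟶ PicF.XT (str k R) (pt k A) :=
  Spec.map (CommRingCat.ofHom (Ideal.Quotient.mk J)) ≫ (toXT k R A).hom

instance (J : Ideal (A ⊗[k] R)) : IsClosedImmersion (famι k R J) := by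
  haveI : IsClosedImmersion (Spec.map (CommRingCat.ofHom (Ideal.Quotient.mk J))) :=
    IsClosedImmersion.spec_of_surjective _ Ideal.Quotient.mk_surjective
  unfold famι; infer_instance

/-- The family of an ideal. -/
def fam (J : Ideal (A ⊗[k] R)) : (PicF.XT (str k R) (pt k A)).IdealSheafData := (famι k R J).ker

theorem famι_proj (J : Ideal (A ⊗[k] R)) :
    famι k R J ≫ PicF.XTproj (str k R) (pt k A) =
      Spec.map (CommRingCat.ofHom (algebraMap A ((A ⊗[k] R) ⧸ J))) := by
  rw [famι, Category.assoc, toXT_proj, ← Spec.map_comp]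
  rfl

set_option backward.isDefEq.respectTransparency false in
theorem exists_iso_fam (J : Ideal (A ⊗[k] R)) :
    ∃ e : Spec (CommRingCat.of ((A ⊗[k] R) ⧸ J)) ≅ (fam k R J).subscheme,
      e.hom ≫ (fam k R J).subschemeι = famι k R J :=
  haveI : IsClosedImmersion (famι k R J) := inferInstance
  haveI : IsIso (famι k R J).toImage := inferInstanceAs (IsIso (Scheme.Hom.toImage (famι k R J)))
  ⟨asIso (famι k R J).toImage, (famι k R J).toImage_imageι⟩

theorem isFinLocFreeOfDeg_congr {B B' C : Scheme.{u}} (e : B ≅ B') (q : B' ⟶ C) {n : ℕ}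
    (h : Mor2.IsFinLocFreeOfDeg n (e.hom ≫ q)) : Mor2.IsFinLocFreeOfDeg n q := by
  obtain ⟨⟨h1, h2, h3⟩, h4⟩ := h
  have hq : q = e.inv ≫ e.hom ≫ q := (e.inv_hom_id_assoc q).symm
  have d1 : IsFinite q := by rw [hq]; exact MorphismProperty.comp_mem _ e.inv (e.hom ≫ q) inferInstance h1
  have d2 : Flat q := by rw [hq]; exact MorphismProperty.comp_mem _ e.inv (e.hom ≫ q) inferInstance h2
  have d3 : LocallyOfFinitePresentation q := by
    rw [hq]; exact MorphismProperty.comp_mem _ e.inv (e.hom ≫ q) inferInstance h3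
  haveI := d1; haveI := d2
  exact ⟨⟨d1, d2, d3⟩, fun y => by rw [← h4 y, Scheme.Hom.finrank_comp_left_of_isIso]⟩

theorem isFinLocFreeOfDeg_fam {n : ℕ} (J : Ideal (A ⊗[k] R))
    (b : Module.Basis (Fin n) A ((A ⊗[k] R) ⧸ J)) :
    Mor2.IsFinLocFreeOfDeg n ((fam k R J).subschemeι ≫ PicF.XTproj (str k R) (pt k A)) := by
  obtain ⟨e, he⟩ := exists_iso_fam k R J
  refine isFinLocFreeOfDeg_congr e _ ?_
  rw [← Category.assoc, he, famι_proj]
  haveI : Module.Free A ((A ⊗[k] R) ⧸ J) := .of_basis b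
  haveI : Module.Finite A ((A ⊗[k] R) ⧸ J) := .of_basis b
  haveI : Module.FinitePresentation A ((A ⊗[k] R) ⧸ J) := Module.finitePresentation_of_projective _ _
  haveI : Algebra.FinitePresentation A ((A ⊗[k] R) ⧸ J) := Algebra.FinitePresentation.of_finitePresentation _ _
  haveI h1 : IsFinite (Spec.map (CommRingCat.ofHom (algebraMap A ((A ⊗[k] R) ⧸ J)))) :=
    (IsFinite.SpecMap_iff _).mpr (RingHom.finite_algebraMap.mpr ‹_›)
  haveI h2 : Flat (Spec.map (CommRingCat.ofHom (algebraMap A ((A ⊗[k] R) ⧸ J)))) :=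
    Flat.SpecMap_iff.mpr (RingHom.flat_algebraMap_iff.mpr inferInstance)
  refine ⟨⟨h1, h2, (HasRingHomProperty.Spec_iff (P := @LocallyOfFinitePresentation)).mpr
      (RingHom.finitePresentation_algebraMap.mpr ‹_›)⟩, fun y => ?_⟩
  rw [Scheme.Hom.finrank_SpecMap_algebraMap]
  haveI : Nontrivial A := PrimeSpectrum.nontrivial y
  rw [Module.rankAtStalk_eq_finrank_of_free]
  show Module.finrank A ((A ⊗[k] R) ⧸ J) = n
  rw [Module.finrank_eq_card_basis b, Fintype.card_fin]

/-- Every family over a field comes from an ideal. -/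
theorem exists_eq_fam {K : Type u} [Field K] [Algebra k K] {n : ℕ}
    (W : _root_.HilbD.Obj (str k R) n (pt k K)) :
    ∃ J : Ideal (K ⊗[k] R), fam k R J = W.1 ∧ Module.finrank K ((K ⊗[k] R) ⧸ J) = n := by
  obtain ⟨J, e, he⟩ := (IsClosedImmersion.Spec_iff (f := W.1.subschemeι ≫ (toXT k R K).inv)).1 inferInstance
  let J' : Ideal (K ⊗[k] R) := J
  have he' : W.1.subschemeι = e.hom ≫ famι k R J' := by
    rw [← cancel_mono (toXT k R K).inv, he]
    simp [famι, J']
  have hfam : fam k R J' = W.1 := by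
    rw [fam, ← Scheme.Hom.ker_comp_of_isIso e.hom (famι k R J'), ← he']
    exact W.1.ker_subschemeι
  refine ⟨J', hfam, ?_⟩
  obtain ⟨⟨h1, h2, h3⟩, h4⟩ := W.2
  have hq : W.1.subschemeι ≫ PicF.XTproj (str k R) (pt k K) =
      e.hom ≫ Spec.map (CommRingCat.ofHom (algebraMap K ((K ⊗[k] R) ⧸ J'))) := by
    rw [he', Category.assoc, famι_proj]
  haveI hfin : Module.Finite K ((K ⊗[k] R) ⧸ J') := by
    have : IsFinite (e.inv ≫ W.1.subschemeι ≫ PicF.XTproj (str k R) (pt k K)) := by
      haveI := h1; infer_instance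
    rw [hq, e.inv_hom_id_assoc, IsFinite.SpecMap_iff] at this
    exact RingHom.finite_algebraMap.mp this
  haveI : IsFinite (Spec.map (CommRingCat.ofHom (algebraMap K ((K ⊗[k] R) ⧸ J')))) :=
    (IsFinite.SpecMap_iff _).mpr (RingHom.finite_algebraMap.mpr hfin)
  haveI : Flat (Spec.map (CommRingCat.ofHom (algebraMap K ((K ⊗[k] R) ⧸ J')))) :=
    Flat.SpecMap_iff.mpr (RingHom.flat_algebraMap_iff.mpr inferInstance)
  have := h4 (IsLocalRing.closedPoint K)
  rw [← this]
  simp only [hq]
  rw [Scheme.Hom.finrank_comp_left_of_isIso, Scheme.Hom.finrank_SpecMap_algebraMap,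
    Module.rankAtStalk_eq_finrank_of_free]
  rfl

/-- A morphism of algebras as a morphism of points. -/
def ptMap {A' : Type u} [CommRing A'] [Algebra k A'] (φ : A →ₐ[k] A') : pt k A' ⟶ pt k A :=
  Over.homMk (Spec.map (CommRingCat.ofHom φ.toRingHom)) (by
    show Spec.map _ ≫ Spec.map _ = Spec.map _
    rw [← Spec.map_comp]
    congr 1
    exact CommRingCat.hom_ext φ.comp_algebraMap)

theorem isPushout_quotient {B B' : Type u} [CommRing B] [CommRing B'] (g : B →+* B') (J : Ideal B) :
    IsPushout (CommRingCat.ofHom g) (CommRingCat.ofHom (Ideal.Quotient.mk J))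
      (CommRingCat.ofHom (Ideal.Quotient.mk (J.map g)))
      (CommRingCat.ofHom (Ideal.quotientMap (J.map g) g Ideal.le_comap_map)) := by
  have w : CommRingCat.ofHom g ≫ CommRingCat.ofHom (Ideal.Quotient.mk (J.map g)) =
      CommRingCat.ofHom (Ideal.Quotient.mk J) ≫
        CommRingCat.ofHom (Ideal.quotientMap (J.map g) g Ideal.le_comap_map) :=
    CommRingCat.hom_ext (Ideal.quotientMap_comp_mk Ideal.le_comap_map).symm
  have hker : ∀ s : PushoutCocone (CommRingCat.ofHom g) (CommRingCat.ofHom (Ideal.Quotient.mk J)),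
      ∀ a ∈ J.map g, s.inl.hom a = 0 := by
    intro s a ha
    have : J.map g ≤ RingHom.ker s.inl.hom := Ideal.map_le_iff_le_comap.2 fun j hj => by
      have h := ConcreteCategory.congr_hom s.condition j
      show s.inl.hom (g j) = 0
      rw [show s.inl.hom (g j) = s.inr.hom (Ideal.Quotient.mk J j) from h,
        Ideal.Quotient.eq_zero_iff_mem.2 hj, map_zero]
    exact this ha
  refine IsPushout.of_isColimit' ⟨w⟩ (PushoutCocone.IsColimit.mk w
    (fun s => CommRingCat.ofHom (Ideal.Quotient.lift (J.map g) s.inl.hom (hker s))) (fun s => ?_) (fun s => ?_)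
    fun s m h1 h2 => ?_)
  · exact CommRingCat.hom_ext (Ideal.Quotient.lift_comp_mk _ _ (hker s))
  · refine CommRingCat.hom_ext (Ideal.Quotient.ringHom_ext (RingHom.ext fun b => ?_))
    show Ideal.Quotient.lift (J.map g) s.inl.hom (hker s) (Ideal.quotientMap (J.map g) g Ideal.le_comap_map (Ideal.Quotient.mk J b)) = _
    rw [Ideal.quotientMap_mk, Ideal.Quotient.lift_mk]
    exact ConcreteCategory.congr_hom s.condition b
  · refine CommRingCat.hom_ext (Ideal.Quotient.ringHom_ext (RingHom.ext fun b => ?_))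
    show m.hom (Ideal.Quotient.mk (J.map g) b) =
      Ideal.Quotient.lift (J.map g) s.inl.hom (hker s) (Ideal.Quotient.mk (J.map g) b)
    rw [Ideal.Quotient.lift_mk]
    exact ConcreteCategory.congr_hom h1 b

theorem pull_fam {A' : Type u} [CommRing A'] [Algebra k A'] (φ : A →ₐ[k] A') (J : Ideal (A ⊗[k] R)) :
    _root_.HilbD.pull (str k R) (ptMap k φ) (fam k R J) =
      fam k R (J.map (Algebra.TensorProduct.map φ (AlgHom.id k R))) := by
  set Φ := Algebra.TensorProduct.map φ (AlgHom.id k R)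
  have hsq : (toXT k R A').hom ≫ PicF.XTmap (str k R) (ptMap k φ) =
      Spec.map (CommRingCat.ofHom Φ.toRingHom) ≫ (toXT k R A).hom := by
    refine pullback.hom_ext ?_ ?_
    · rw [Category.assoc, HilbD.XTmap_fst, toXT_fst, Category.assoc, toXT_fst, ← Spec.map_comp]
      congr 1
      ext r
      simp [Φ]
    · rw [Category.assoc]
      show (toXT k R A').hom ≫ PicF.XTmap (str k R) (ptMap k φ) ≫ PicF.XTproj (str k R) (pt k A) =
        (Spec.map _ ≫ (toXT k R A).hom) ≫ PicF.XTproj (str k R) (pt k A)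
      rw [HilbD.XTmap_proj, ← Category.assoc, toXT_proj, Category.assoc, toXT_proj]
      show Spec.map _ ≫ Spec.map _ = _
      rw [← Spec.map_comp, ← Spec.map_comp]
      congr 1
  have hpb := isPullback_SpecMap_of_isPushout _ _ _ _ (isPushout_quotient Φ.toRingHom J)
  have hiso : IsPullback (toXT k R A').hom (Spec.map (CommRingCat.ofHom Φ.toRingHom))
      (PicF.XTmap (str k R) (ptMap k φ)) (toXT k R A).hom := IsPullback.of_horiz_isIso ⟨hsq⟩
  rw [HilbD.pull_eq_comap, fam, fam]
  exact HilbD.comap_ker_of_isPullback (hpb.paste_horiz hiso)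

variable {k R}

theorem specK_connected (K : Type u) [Field K] : PreconnectedSpace (Spec (CommRingCat.of (Polynomial K))) :=
  inferInstanceAs (PreconnectedSpace (PrimeSpectrum (Polynomial K)))

theorem preconnected_of_universal [IsAlgClosed k] [IsLocalRing R] [Module.Finite k R] (n : ℕ)
    (H : Over (Spec (CommRingCat.of k))) (Z : _root_.HilbD.Obj (str k R) n H)
    (hH : _root_.HilbD.IsUniversal (str k R) n H Z) : PreconnectedSpace H.left := by
  obtain ⟨res, hres⟩ := exists_res k R
  rw [preconnectedSpace_iff_connectedComponent]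
  intro x
  refine Set.eq_univ_of_forall fun y => ?_
  obtain ⟨z, hzx, hzy⟩ := Scheme.Pullback.exists_preimage_pullback (f := H.hom) (g := H.hom) x y
    (Subsingleton.elim (α := PrimeSpectrum k) _ _)
  let P := pullback H.hom H.hom
  let K := P.residueField z
  letI : Algebra k K := (Weil.structMap (pullback.fst H.hom H.hom ≫ H.hom) z).toAlgebra
  have hstr : P.fromSpecResidueField z ≫ pullback.fst H.hom H.hom ≫ H.hom =
      Spec.map (CommRingCat.ofHom (algebraMap k K)) := ZetaLib.fromSpecResidueField_comp _ z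
  let a : pt k K ⟶ H := Over.homMk (P.fromSpecResidueField z ≫ pullback.fst H.hom H.hom)
    (by rw [Category.assoc]; exact hstr)
  let b : pt k K ⟶ H := Over.homMk (P.fromSpecResidueField z ≫ pullback.snd H.hom H.hom)
    (by rw [Category.assoc, ← pullback.condition]; exact hstr)
  let o := IsLocalRing.closedPoint K
  have hz : P.fromSpecResidueField z o = z := P.fromSpecResidueField_apply _ _
  have ha : a.left o = x := by
    show (P.fromSpecResidueField z ≫ pullback.fst H.hom H.hom) o = x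
    rw [Scheme.Hom.comp_apply, hz, hzx]
  have hb : b.left o = y := by
    show (P.fromSpecResidueField z ≫ pullback.snd H.hom H.hom) o = y
    rw [Scheme.Hom.comp_apply, hz, hzy]
  obtain ⟨Ja, hJa, hna⟩ := exists_eq_fam k R (HilbD.pullObj (str k R) n a Z)
  obtain ⟨Jb, hJb, hnb⟩ := exists_eq_fam k R (HilbD.pullObj (str k R) n b Z)
  let r : Ideal (K ⊗[k] R) → Ideal (K ⊗[k] R) → Prop := fun I I' => ∀ (g g' : pt k K ⟶ H),
    _root_.HilbD.pull (str k R) g Z.1 = fam k R I → _root_.HilbD.pull (str k R) g' Z.1 = fam k R I' →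
      connectedComponent (g.left o) = connectedComponent (g'.left o)
  have huniq : ∀ {T : Over (Spec (CommRingCat.of k))} (Z' : _root_.HilbD.Obj (str k R) n T) (g g' : T ⟶ H),
      _root_.HilbD.pull (str k R) g Z.1 = Z'.1 → _root_.HilbD.pull (str k R) g' Z.1 = Z'.1 → g = g' :=
    fun Z' g g' h h' => (hH _ Z').unique h h'
  -- classifying morphisms exist for all ideals of colength `n`
  have hex : ∀ I : Ideal (K ⊗[k] R), Module.finrank K ((K ⊗[k] R) ⧸ I) = n →
      ∃ g : pt k K ⟶ H, _root_.HilbD.pull (str k R) g Z.1 = fam k R I := fun I hI =>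
    (hH _ ⟨fam k R I, isFinLocFreeOfDeg_fam k R I (Module.finBasisOfFinrankEq K _ hI)⟩).exists
  have hr : ∀ I I', Module.finrank K ((K ⊗[k] R) ⧸ I) = n → Module.finrank K ((K ⊗[k] R) ⧸ I') = n →
      r I I' := by
    intro I I' hI hI'
    let r' : Ideal (K ⊗[k] R) → Ideal (K ⊗[k] R) → Prop := fun I I' =>
      r I I' ∧ (I = I' ∨ (Module.finrank K ((K ⊗[k] R) ⧸ I) = n ∧ Module.finrank K ((K ⊗[k] R) ⧸ I') = n))
    suffices r' I I' from this.1
    refine rel_of_pencils k R res hres n r' (fun I => ⟨fun g g' h h' => ?_, .inl rfl⟩) ?_ ?_ I I' hI hI'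
    · obtain rfl : g = g' := huniq ⟨fam k R I, h ▸ (HilbD.pullObj (str k R) n g Z).2⟩ g g' h h'
      rfl
    · rintro I J L ⟨h1, c1⟩ ⟨h2, c2⟩
      rcases c1 with rfl | ⟨cI, cJ⟩
      · exact ⟨h2, c2⟩
      rcases c2 with rfl | ⟨-, cL⟩
      · exact ⟨h1, .inr ⟨cI, cJ⟩⟩
      refine ⟨fun g g' h h' => ?_, .inr ⟨cI, cL⟩⟩
      obtain ⟨m, hm⟩ := hex J cJ
      exact (h1 g m h hm).trans (h2 m g' hm h')
    · intro I I' 𝒥 h𝒥
      obtain ⟨B⟩ := h𝒥.basis
      obtain ⟨γ, hγ⟩ := (hH _ ⟨fam k R 𝒥, isFinLocFreeOfDeg_fam k R 𝒥 B⟩).exists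
      let ev : K → (Polynomial K →ₐ[k] K) := fun c => (Polynomial.aeval (R := K) c).restrictScalars k
      have key : ∀ c, _root_.HilbD.pull (str k R) (ptMap k (ev c) ≫ γ) Z.1 =
          fam k R (𝒥.map (Algebra.TensorProduct.map (ev c) (AlgHom.id k R))) := fun c => by
        rw [HilbD.pull_comp, hγ, pull_fam]
      have hI1 := key 1
      have hI0 := key 0
      rw [h𝒥.at_one] at hI1
      rw [h𝒥.at_zero] at hI0
      have hfr : ∀ (I : Ideal (K ⊗[k] R)) (g : pt k K ⟶ H), _root_.HilbD.pull (str k R) g Z.1 = fam k R I →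
          Module.finrank K ((K ⊗[k] R) ⧸ I) = n := fun I g hg => by
        have hobj := (HilbD.pullObj (str k R) n g Z).2
        obtain ⟨e, he⟩ := exists_iso_fam k R I
        have hf : Mor2.IsFinLocFreeOfDeg n ((fam k R I).subschemeι ≫ PicF.XTproj (str k R) (pt k K)) := hg ▸ hobj
        have h' : Mor2.IsFinLocFreeOfDeg n (e.hom ≫ (fam k R I).subschemeι ≫ PicF.XTproj (str k R) (pt k K)) :=
          isFinLocFreeOfDeg_congr e.symm _ (by simpa using hf)
        rw [← Category.assoc, he, famι_proj] at h'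
        obtain ⟨⟨d1, d2, -⟩, d4⟩ := h'
        haveI := d1; haveI := d2
        haveI : Module.Finite K ((K ⊗[k] R) ⧸ I) := RingHom.finite_algebraMap.mp ((IsFinite.SpecMap_iff _).mp d1)
        rw [← d4 (IsLocalRing.closedPoint K), Scheme.Hom.finrank_SpecMap_algebraMap,
          Module.rankAtStalk_eq_finrank_of_free]
        rfl
      refine ⟨fun g g' h h' => ?_, .inr ⟨hfr I _ hI1, hfr I' _ hI0⟩⟩
      obtain rfl : g = ptMap k (ev 1) ≫ γ := huniq ⟨fam k R I, h ▸ (HilbD.pullObj (str k R) n g Z).2⟩ _ _ h hI1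
      obtain rfl : g' = ptMap k (ev 0) ≫ γ := huniq ⟨fam k R I', h' ▸ (HilbD.pullObj (str k R) n g' Z).2⟩ _ _ h' hI0
      haveI : PreconnectedSpace ↥(pt k (Polynomial K)).left := specK_connected K
      have hc : _root_.IsPreconnected (Set.range γ.left.base) := isPreconnected_range γ.left.continuous
      have hm : ∀ c, (ptMap k (ev c) ≫ γ).left o ∈ Set.range γ.left.base := fun c =>
        ⟨(ptMap k (ev c)).left o, by rw [Over.comp_left]; exact (Scheme.Hom.comp_apply _ _ _).symm⟩
      exact connectedComponent_eq (hc.subset_connectedComponent (hm 0) (hm 1)) |>.symm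
  have := hr Ja Jb hna hnb a b hJa.symm hJb.symm
  rw [ha, hb] at this
  rw [this]
  exact mem_connectedComponent

end Groth.Agent.PunctConn
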